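import Mathlib
import Cfsg.Agent.H278.ElDefs
import Cfsg.Agent.H394.SqBasic
import Cfsg.Agent.Solvable.UniqueOrderP
import Cfsg.Agent.H947.SqLin3_m3
import Cfsg.Agent.H150.Fpf
import Cfsg.Agent.H907.MxSymp2_m3
import Cfsg.Agent.Lib.Zsigmondy
import Cfsg.Agent.FastGrp
import Cfsg.Agent.Prune
set_option linter.all false
prune_inst 0x7f00000000000000000000000000000000000000000000000000000000000000000000000000000000000000000000000000000000000000000000000000000000000000000000000000000000000000003fffffffffffffffffffffffffffbeffbdffffffff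
open scoped Cfsg.Agent.FastGrp

-- part: H947/El/PsuA
section
/-!
# TEAM ELUSIVE, rank one: `PSU₃(q)` (helper947, task 647), group theory

* `card_centralizer_eq` : if `M` meets all `Aut T`-classes of elements of order `p` and `p²` does not divide `|M|`, then all
  elements of order `p` of `T` have centralisers of the same order;
* `exists_two_classes` : this fails in `T` with non-abelian TI Sylow `p`-subgroups.
-/

set_option autoImplicit false
set_option linter.style.haveILetI false

namespace Cfsg.Agent.H947.El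

open MulAction Subgroup Cfsg Cfsg.Agent.H396

theorem card_centralizer_aut {T : Type*} [Group T] (φ : T ≃* T) (x : T) :
    Nat.card (centralizer ({φ x} : Set T)) = Nat.card (centralizer ({x} : Set T)) := by
  refine (Nat.card_congr ?_).symm
  refine { toFun := fun y => ⟨φ y, ?_⟩, invFun := fun y => ⟨φ.symm y, ?_⟩, left_inv := ?_, right_inv := ?_ }
  · have := mem_centralizer_singleton_iff.1 y.2
    rw [mem_centralizer_singleton_iff, ← map_mul, ← map_mul, this]
  · have := mem_centralizer_singleton_iff.1 y.2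
    rw [mem_centralizer_singleton_iff]
    apply φ.injective
    rw [map_mul, map_mul, φ.apply_symm_apply, this]
  · intro y; simp
  · intro y; simp

theorem centralizer_eq_of_zpowers {T : Type*} [Group T] {x y : T} (h : zpowers x = zpowers y) :
    centralizer ({x} : Set T) = centralizer ({y} : Set T) := by
  have key : ∀ a b : T, zpowers a = zpowers b → centralizer ({a} : Set T) ≤ centralizer ({b} : Set T) := by
    intro a b hab c hc
    rw [mem_centralizer_singleton_iff] at hc ⊢
    obtain ⟨k, hk⟩ : b ∈ zpowers a := hab ▸ mem_zpowers b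
    have hk' : a ^ k = b := hk
    rw [← hk']
    exact (show Commute c a from hc).zpow_right k
  exact le_antisymm (key _ _ h) (key _ _ h.symm)

theorem card_centralizer_eq {T : Type*} [Group T] [Finite T] {M : Subgroup T} (hD : ¬ Der T M) {p : ℕ} (hp : p.Prime)
    (hM : ¬ p ^ 2 ∣ Nat.card M) {x y : T} (hx : orderOf x = p) (hy : orderOf y = p) :
    Nat.card (centralizer ({x} : Set T)) = Nat.card (centralizer ({y} : Set T)) := by
  have : Fact p.Prime := ⟨hp⟩
  have key : ∀ x : T, orderOf x = p → ∃ φ : T ≃* T, φ x ∈ M := by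
    intro x hx
    by_contra hcon
    push Not at hcon
    exact hD ⟨x, by rw [hx]; exact hp, hcon⟩
  obtain ⟨φ, hφ⟩ := key x hx
  obtain ⟨ψ, hψ⟩ := key y hy
  rw [← card_centralizer_aut φ x, ← card_centralizer_aut ψ y]
  -- Sylow subgroups of `M`
  have hsyl : ∀ z : M, orderOf z = p → ∃ P : Sylow p M, (P : Subgroup M) = zpowers z := by
    intro z hz
    have h1 : IsPGroup p (zpowers z) := IsPGroup.of_card (n := 1) (by rw [Nat.card_zpowers, hz, pow_one])
    obtain ⟨P, hP⟩ := h1.exists_le_sylow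
    refine ⟨P, (Subgroup.eq_of_le_of_card_ge hP ?_).symm⟩
    rw [Nat.card_zpowers, hz, P.card_eq_multiplicity]
    have h2 : (Nat.card M).factorization p ≤ 1 := by
      by_contra h2
      exact hM ((hp.pow_dvd_iff_le_factorization Nat.card_pos.ne').2 (by omega))
    calc p ^ (Nat.card M).factorization p ≤ p ^ 1 := Nat.pow_le_pow_right hp.pos h2
      _ = p := pow_one p
  have hxo : orderOf (⟨φ x, hφ⟩ : M) = p := by rw [Subgroup.orderOf_mk, MulEquiv.orderOf_eq, hx]
  have hyo : orderOf (⟨ψ y, hψ⟩ : M) = p := by rw [Subgroup.orderOf_mk, MulEquiv.orderOf_eq, hy]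
  obtain ⟨P, hP⟩ := hsyl _ hxo
  obtain ⟨Q, hQ⟩ := hsyl _ hyo
  obtain ⟨g, hg⟩ := exists_smul_eq M P Q
  have h1 : zpowers ((g : T) * φ x * (g : T)⁻¹) = zpowers (ψ y) := by
    have h2 : (P : Subgroup M).map (MulAut.conj g).toMonoidHom = (Q : Subgroup M) := by rw [← hg]; rfl
    rw [hP, hQ, MonoidHom.map_zpowers] at h2
    have h3 := congrArg (fun K : Subgroup M => K.map M.subtype) h2
    simp only [MonoidHom.map_zpowers] at h3
    exact h3
  rw [← centralizer_eq_of_zpowers h1]
  exact (card_centralizer_aut (MulAut.conj (g : T)) (φ x)).symm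

/-- in a non-abelian group of order `p³`, `p` odd, there is a non-central element of order `p`. -/
theorem exists_noncentral {S : Type*} [Group S] [Finite S] {p : ℕ} [hp : Fact p.Prime] (hp2 : p ≠ 2)
    (hc : Nat.card S = p ^ 3) (hab : ∃ a b : S, a * b ≠ b * a) : ∃ y : S, orderOf y = p ∧ y ∉ center S := by
  by_contra hcon
  push Not at hcon
  obtain ⟨a, b, hab⟩ := hab
  have hS : IsPGroup p S := IsPGroup.of_card hc
  have hZ : Nat.card (center S) ∣ p := by
    have h1 : Nat.card (center S) ∣ p ^ 3 := hc ▸ (center S).card_subgroup_dvd_card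
    obtain ⟨k, hk3, hk⟩ := (Nat.dvd_prime_pow hp.out).1 h1
    have h2 := (center S).card_mul_index
    rw [hk, hc] at h2
    have h3 : (center S).index = p ^ (3 - k) := by
      have h4 : p ^ k * (center S).index = p ^ k * p ^ (3 - k) := by
        rw [h2, ← pow_add]; congr 1; omega
      exact Nat.eq_of_mul_eq_mul_left (pow_pos hp.out.pos k) h4
    have hk1 : k ≤ 1 := by
      by_contra hk1
      -- the quotient is cyclic
      have h5 : Nat.card (S ⧸ center S) ∣ p := by
        rw [← Subgroup.index_eq_card, h3]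
        calc p ^ (3 - k) ∣ p ^ 1 := pow_dvd_pow p (by omega)
          _ = p := pow_one p
      have h6 : IsCyclic (S ⧸ center S) := isCyclic_of_card_dvd_prime h5
      exact hab (commutative_of_cyclic_center_quotient (QuotientGroup.mk' (center S))
        (by rw [QuotientGroup.ker_mk']) a b)
    rw [hk]
    calc p ^ k ∣ p ^ 1 := pow_dvd_pow p hk1
      _ = p := pow_one p
  have hU : Cfsg.Agent.Solvable.UniqueOrderP.UniqueP p S := by
    intro x y hx1 hx hy
    by_cases hy1 : y = 1
    · rw [hy1]; exact one_mem _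
    have hxo : orderOf x = p := orderOf_eq_prime hx hx1
    have hyo : orderOf y = p := orderOf_eq_prime hy hy1
    have hxZ := hcon x hxo
    have hyZ := hcon y hyo
    have h1 : zpowers (⟨x, hxZ⟩ : center S) = ⊤ := by
      apply Subgroup.eq_top_of_le_card
      rw [Nat.card_zpowers, Subgroup.orderOf_mk, hxo]
      exact Nat.le_of_dvd hp.out.pos hZ
    have h2 : (⟨y, hyZ⟩ : center S) ∈ zpowers (⟨x, hxZ⟩ : center S) := by rw [h1]; trivial
    obtain ⟨k, hk⟩ := h2
    exact ⟨k, congrArg Subtype.val hk⟩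
  have hcyc := Cfsg.Agent.Solvable.UniqueOrderP.isCyclic_of_uniqueP hp2 hS hU
  exact hab (hcyc.commGroup.mul_comm a b)

/-- non-abelian TI Sylow `p`-subgroups of order `p³`. -/
theorem exists_two_classes {T : Type*} [Group T] [Finite T] {p : ℕ} [hp : Fact p.Prime] (hp2 : p ≠ 2)
    (hTI : ∀ P Q : Sylow p T, P ≠ Q → (P : Subgroup T) ⊓ Q = ⊥) (h3 : p ^ 3 ∣ Nat.card T) (h4 : ¬ p ^ 4 ∣ Nat.card T)
    {R : Subgroup T} (hR : IsPGroup p R) {a b : T} (ha : a ∈ R) (hb : b ∈ R) (hab : a * b ≠ b * a) :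
    ∃ x y : T, orderOf x = p ∧ orderOf y = p ∧
      Nat.card (centralizer ({x} : Set T)) ≠ Nat.card (centralizer ({y} : Set T)) := by
  obtain ⟨S, hRS⟩ := hR.exists_le_sylow
  have hf : (Nat.card T).factorization p = 3 := by
    apply le_antisymm
    · by_contra h
      exact h4 ((hp.out.pow_dvd_iff_le_factorization Nat.card_pos.ne').2 (by omega))
    · exact (hp.out.pow_dvd_iff_le_factorization Nat.card_pos.ne').1 h3
  have hcard : ∀ Q : Sylow p T, Nat.card Q = p ^ 3 := fun Q => by rw [Q.card_eq_multiplicity, hf]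
  have hSab : ∃ u v : S, u * v ≠ v * u :=
    ⟨⟨a, hRS ha⟩, ⟨b, hRS hb⟩, fun h => hab (congrArg Subtype.val h)⟩
  obtain ⟨y, hy, hyZ⟩ := exists_noncentral hp2 (hcard S) hSab
  -- a central element
  have hnt : Nontrivial S := by
    rw [← Finite.one_lt_card_iff_nontrivial, hcard]
    exact Nat.one_lt_pow (by norm_num) hp.out.one_lt
  have hZnt := IsPGroup.center_nontrivial S.isPGroup'
  have hZp : p ∣ Nat.card (center S) := by
    obtain ⟨n, hn0, hn⟩ := (IsPGroup.nontrivial_iff_card (S.isPGroup'.to_subgroup (center S))).1 hZnt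
    rw [hn]; exact dvd_pow_self p hn0.ne'
  obtain ⟨x, hx⟩ := exists_prime_orderOf_dvd_card' (G := center S) p hZp
  refine ⟨((x : S) : T), (y : T), by rw [Subgroup.orderOf_coe, Subgroup.orderOf_coe, hx], by rw [Subgroup.orderOf_coe, hy], ?_⟩
  intro heq
  have hSx : (S : Subgroup T) ≤ centralizer ({((x : S) : T)} : Set T) := by
    intro s hs
    rw [mem_centralizer_singleton_iff]
    exact congrArg Subtype.val (mem_center_iff.1 x.2 ⟨s, hs⟩)
  have hd : p ^ 3 ∣ Nat.card (centralizer ({(y : T)} : Set T)) := by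
    rw [← heq, ← hcard S]
    exact Subgroup.card_dvd_of_le hSx
  -- a Sylow subgroup of `C(y)`
  obtain ⟨Q⟩ : Nonempty (Sylow p (centralizer ({(y : T)} : Set T))) := inferInstance
  have hyC : (y : T) ∈ centralizer ({(y : T)} : Set T) := by rw [mem_centralizer_singleton_iff]
  have hcomm : ∀ c : centralizer ({(y : T)} : Set T), c * ⟨y, hyC⟩ = ⟨y, hyC⟩ * c := by
    intro c
    exact Subtype.ext (mem_centralizer_singleton_iff.1 c.2)
  have hyQ : (⟨y, hyC⟩ : centralizer ({(y : T)} : Set T)) ∈ (Q : Subgroup (centralizer ({(y : T)} : Set T))) := by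
    have hn : (zpowers (⟨y, hyC⟩ : centralizer ({(y : T)} : Set T))).Normal := by
      refine ⟨fun n hn g => ?_⟩
      have : g * n * g⁻¹ = n := by
        obtain ⟨k, rfl⟩ := hn
        have := (show Commute g _ from hcomm g).zpow_right k
        show g * (⟨y, hyC⟩ : centralizer ({(y : T)} : Set T)) ^ k * g⁻¹ = _
        rw [this.eq]; group
      rw [this]; exact hn
    have h1 : IsPGroup p (zpowers (⟨y, hyC⟩ : centralizer ({(y : T)} : Set T))) :=
      IsPGroup.of_card (n := 1) (by rw [Nat.card_zpowers, Subgroup.orderOf_mk, Subgroup.orderOf_coe, hy, pow_one])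
    have h2 := Q.isPGroup'.to_sup_of_normal_right h1
    have h3 := Q.is_maximal' h2 le_sup_left
    have h4 : (⟨y, hyC⟩ : centralizer ({(y : T)} : Set T)) ∈ (Q : Subgroup _) ⊔ zpowers (⟨y, hyC⟩ : centralizer ({(y : T)} : Set T)) :=
      (le_sup_right : _ ≤ (Q : Subgroup _) ⊔ zpowers (⟨y, hyC⟩ : centralizer ({(y : T)} : Set T))) (mem_zpowers _)
    rw [h3] at h4
    exact h4
  have hQp : IsPGroup p ((Q : Subgroup (centralizer ({(y : T)} : Set T))).map (Subgroup.subtype _)) := Q.isPGroup'.map _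
  obtain ⟨Q2, hQ2⟩ := hQp.exists_le_sylow
  have hQc : Nat.card Q2 ≤ Nat.card ((Q : Subgroup (centralizer ({(y : T)} : Set T))).map (Subgroup.subtype _)) := by
    rw [Subgroup.card_map_of_injective (Subgroup.subtype_injective _), hcard, Q.card_eq_multiplicity]
    exact Nat.pow_le_pow_right hp.out.pos ((hp.out.pow_dvd_iff_le_factorization Nat.card_pos.ne').1 hd)
  have hQeq := Subgroup.eq_of_le_of_card_ge hQ2 hQc
  have hyQ2 : (y : T) ∈ (Q2 : Subgroup T) := hQ2 ⟨_, hyQ, rfl⟩
  have hQS : Q2 = S := by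
    by_contra hne
    have h1 := hTI Q2 S hne
    have h2 : (y : T) ∈ (Q2 : Subgroup T) ⊓ S := ⟨hyQ2, y.2⟩
    rw [h1, mem_bot] at h2
    have h3 : y = 1 := Subtype.ext h2
    rw [h3, orderOf_one] at hy
    exact hp.out.one_lt.ne hy
  apply hyZ
  rw [mem_center_iff]
  intro s
  have hs : (s : T) ∈ (Q2 : Subgroup T) := by rw [hQS]; exact s.2
  rw [← hQeq] at hs
  obtain ⟨c, -, hc⟩ := hs
  have h1 : (c : T) * y = y * c := mem_centralizer_singleton_iff.1 c.2
  have hc' : (c : T) = s := hc
  rw [hc'] at h1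
  exact Subtype.ext h1

end Cfsg.Agent.H947.El
end

-- part: H947/El/PsuB
section
/-!
# TEAM ELUSIVE, rank one: `PSU₃(q)` (helper947, task 647), matrices

`x ∈ GL₃(q²)` of prime order `r`, where `p` has order `6n` modulo `r`, `q = pⁿ`: `x` lies in no geometric subgroup except in
the normalisers of the cubic fields, which contain no involution of determinant one.
-/

set_option autoImplicit false
set_option linter.style.haveILetI false

namespace Cfsg.Agent.H947.El

open Cfsg Cfsg.Geo Cfsg.Agent.H947.Sq Module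
open scoped MatrixGroups

/-- the numbers -/
structure PN (F : Type*) [Field F] [Fintype F] (p n q r : ℕ) : Prop where
  pp : p.Prime
  n0 : 0 < n
  qp : q = p ^ n
  cF : Fintype.card F = p ^ (2 * n)
  pr : r.Prime
  iff : ∀ j, r ∣ p ^ j - 1 ↔ 6 * n ∣ j
  dv : 6 * n ∣ r - 1
  rp : ¬ r ∣ p

theorem PN.ge {F : Type*} [Field F] [Fintype F] {p n q r : ℕ} (h : PN F p n q r) : 6 * n < r := by
  have := Nat.le_of_dvd (by have := h.pr.two_le; omega) h.dv
  have := h.pr.two_le
  omega

theorem PN.not_dvd {F : Type*} [Field F] [Fintype F] {p n q r : ℕ} (h : PN F p n q r) {j : ℕ} (h0 : 0 < j) (h6 : j < 6 * n) :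
    ¬ r ∣ p ^ j - 1 := by
  intro h1
  have := Nat.le_of_dvd h0 ((h.iff j).1 h1)
  omega

theorem exists_PN {F : Type*} [Field F] [Fintype F] {q : ℕ} (hF : Fintype.card F = q ^ 2) (hq : 3 ≤ q) :
    ∃ p n r, PN F p n q r ∧ CharP F p := by
  obtain ⟨p, hchar⟩ := CharP.exists F
  obtain ⟨N, hp, hN⟩ := FiniteField.card F p
  have hqp : ∃ n, q = p ^ n := by
    have h1 : q ∣ p ^ (N : ℕ) := by rw [← hN, hF]; exact dvd_pow_self q (by norm_num)
    obtain ⟨n, -, hn⟩ := (Nat.dvd_prime_pow hp).1 h1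
    exact ⟨n, hn⟩
  obtain ⟨n, hn⟩ := hqp
  have hn0 : 0 < n := by
    rcases Nat.eq_zero_or_pos n with rfl | h
    · rw [pow_zero] at hn; omega
    · exact h
  obtain ⟨r, hr, hr1, hr2, hr3⟩ := Cfsg.Agent.Lib.Zsigmondy.exists_primitive (a := p) (n := 6 * n)
    hp.two_le (by omega) (by omega) (by
      rintro ⟨rfl, h6⟩
      have : n = 1 := by omega
      rw [this] at hn; omega)
  exact ⟨p, n, r, ⟨hp, hn0, hn, by rw [hF, hn, ← pow_mul, mul_comm], hr, hr1, hr2, hr3⟩, hchar⟩

section

variable {F : Type*} [Field F] [Fintype F] {p n q r : ℕ} (h : PN F p n q r)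

include h

theorem PN.ho : orderOf ((Nat.card F : ℕ) : ZMod r) = 3 := by
  have : Fact r.Prime := ⟨h.pr⟩
  have hp1 : ∀ j, 1 ≤ p ^ j := fun j => Nat.one_le_pow _ _ h.pp.pos
  have key : ∀ j, ((p ^ j : ℕ) : ZMod r) = 1 ↔ r ∣ p ^ j - 1 := by
    intro j
    rw [← Nat.cast_one, ZMod.natCast_eq_natCast_iff, Nat.ModEq.comm, Nat.modEq_iff_dvd' (hp1 j)]
  apply orderOf_eq_prime
  · rw [Nat.card_eq_fintype_card, h.cF, ← Nat.cast_pow, ← pow_mul, key, h.iff]
    exact ⟨1, by ring⟩
  · rw [Nat.card_eq_fintype_card, h.cF, Ne, key]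
    exact h.not_dvd (by have := h.n0; omega) (by have := h.n0; omega)

/-- `x` stabilises no proper non-zero subspace -/
theorem PN.no_sub {X : Matrix (Fin 3) (Fin 3) F} (hX : X ^ r = 1) (hX1 : X ≠ 1) {W : Submodule F (Fin 3 → F)} (h0 : W ≠ ⊥)
    (h1 : W ≠ ⊤) (hW : ∀ v ∈ W, X.mulVec v ∈ W) : False := by
  have : Fact r.Prime := ⟨h.pr⟩
  have h2 : orderOf ((Nat.card F : ℕ) : ZMod r) ∣ finrank F W := by
    refine Cfsg.Agent.H150.dvd_finrank_of_fpf_submodule h.pr (Matrix.toLin' X) ?_ W ?_ ?_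
    · rw [← Matrix.toLin'_pow, hX, Matrix.toLin'_one]; rfl
    · intro w hw
      rw [Matrix.toLin'_apply]
      exact hW w hw
    · intro v _ hv
      rw [Matrix.toLin'_apply] at hv
      exact fpf_mat h.ho hX hX1 v hv
  rw [h.ho] at h2
  have h3 : finrank F W ≠ 0 := by
    rw [Ne, Submodule.finrank_eq_zero]; exact h0
  have h4 : finrank F W < 3 := by
    have := Submodule.finrank_lt h1
    rwa [Module.finrank_fin_fun] at this
  omega

omit h in
theorem pow_eq_self {G : Type*} [Monoid G] {x : G} {r k : ℕ} (hr : r.Prime) (hx : x ^ r = 1) (hk : ¬ r ∣ k) :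
    ∃ l, (x ^ k) ^ l = x := by
  have hco : Nat.Coprime k r := ((hr.coprime_iff_not_dvd).2 hk).symm
  obtain ⟨l, -, hl⟩ := Nat.exists_mul_mod_eq_one_of_coprime hco hr.one_lt
  refine ⟨l, ?_⟩
  rw [← pow_mul, ← Nat.div_add_mod (k * l) r, hl, pow_add, pow_mul, hx, one_pow, one_mul, pow_one]

/-- decompositions into lines -/
theorem PN.no_dec {x : GL (Fin 3) F} (hX : x ^ r = 1) (hX1 : x ≠ 1) {D : Fin 3 → Submodule F (Fin 3 → F)}
    (hD : ∀ i, finrank F (D i) = 1) (hx : x ∈ decompositionStabilizer D) : False := by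
  have hr6 : ¬ r ∣ 6 := by
    intro h1
    have := Nat.le_of_dvd (by norm_num) h1
    have := h.ge
    have := h.n0
    omega
  obtain ⟨σ, hσ⟩ := hx
  have key : ∀ k i, (D i).map (Matrix.toLin' ((x ^ k : GL (Fin 3) F) : Matrix (Fin 3) (Fin 3) F)) = D ((σ ^ k) i) := by
    intro k
    induction k with
    | zero => intro i; simp
    | succ k ih =>
      intro i
      rw [pow_succ', Units.val_mul, Matrix.toLin'_mul, Submodule.map_comp, ih, hσ, pow_succ', Equiv.Perm.mul_apply]
  have h6 : σ ^ 6 = 1 := by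
    have h1 : σ ^ Fintype.card (Equiv.Perm (Fin 3)) = 1 := pow_card_eq_one
    rwa [Fintype.card_perm, Fintype.card_fin] at h1
  have h7 := key 6 0
  rw [h6, Equiv.Perm.one_apply] at h7
  have hX6 : (x ^ 6) ^ r = 1 := by rw [← pow_mul, mul_comm, pow_mul, hX, one_pow]
  have hX61 : x ^ 6 ≠ 1 := by
    intro h8
    obtain ⟨l, hl⟩ := pow_eq_self h.pr hX hr6
    rw [h8, one_pow] at hl
    exact hX1 hl.symm
  refine h.no_sub (X := ((x ^ 6 : GL (Fin 3) F) : Matrix (Fin 3) (Fin 3) F)) ?_ ?_ (W := D 0) ?_ ?_ ?_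
  · rw [← Units.val_pow_eq_pow_val, hX6, Units.val_one]
  · intro h8
    exact hX61 (Units.ext (by rw [h8, Units.val_one]))
  · intro h8
    have := hD 0
    rw [h8, finrank_bot] at this
    omega
  · intro h8
    have := hD 0
    rw [h8, finrank_top, Module.finrank_fin_fun] at this
    omega
  · intro v hv
    rw [← Matrix.toLin'_apply, ← h7]
    exact Submodule.mem_map_of_mem hv

/-- scalars -/
theorem PN.no_scalar {x : GL (Fin 3) F} (hX : x ^ r = 1) (hX1 : x ≠ 1)
    (hs : ∃ c : F, (x : Matrix (Fin 3) (Fin 3) F) = c • (1 : Matrix (Fin 3) (Fin 3) F)) : False := by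
  obtain ⟨c, hc⟩ := hs
  refine h.no_sub (X := (x : Matrix (Fin 3) (Fin 3) F)) ?_ ?_ (W := Submodule.span F {Pi.single 0 1}) ?_ ?_ ?_
  · rw [← Units.val_pow_eq_pow_val, hX, Units.val_one]
  · intro h8
    exact hX1 (Units.ext (by rw [h8, Units.val_one]))
  · intro h1
    rw [Submodule.span_singleton_eq_bot] at h1
    have := congrFun h1 0
    simp at this
  · intro h1
    have h2 : finrank F (Submodule.span F {(Pi.single 0 1 : Fin 3 → F)}) ≤ 1 := by
      have := finrank_span_le_card (R := F) ({Pi.single 0 1} : Set (Fin 3 → F))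
      simpa using this
    rw [h1, finrank_top, Module.finrank_fin_fun] at h2
    omega
  · intro v hv
    rw [hc, Matrix.smul_mulVec, Matrix.one_mulVec]
    exact Submodule.smul_mem _ _ hv

/-- cubic fields: no involutions of determinant one -/
theorem PN.no_field {x t : GL (Fin 3) F} (hX : x ^ r = 1) (hX1 : x ≠ 1) (ht : t * t = 1) (ht1 : t ≠ 1)
    (htd : (t : Matrix (Fin 3) (Fin 3) F).det = 1) {K : Subalgebra F (Matrix (Fin 3) (Fin 3) F)} (hK : IsFieldSubalgebra 3 K)
    (hx : x ∈ subalgebraNormalizer K) (htK : t ∈ subalgebraNormalizer K) : False := by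
  have : Fact r.Prime := ⟨h.pr⟩
  have hr3 : ¬ r ∣ 3 := by
    intro h1
    have := Nat.le_of_dvd (by norm_num) h1
    have := h.ge
    have := h.n0
    omega
  have h1 : (t : Matrix (Fin 3) (Fin 3) F) ∈ K := by
    have h2 := Cfsg.Agent.H907.Mx.cube_mem hK htK
    have h3 : t ^ 3 = t := by rw [pow_succ, pow_two, ht, one_mul]
    rwa [h3] at h2
  have h2 : (x : Matrix (Fin 3) (Fin 3) F) ∈ K := by
    obtain ⟨l, hl⟩ := pow_eq_self h.pr hX hr3
    have h3 := K.pow_mem (Cfsg.Agent.H907.Mx.cube_mem hK hx) l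
    rw [← Units.val_pow_eq_pow_val, hl] at h3
    exact h3
  refine not_commute_mat h.ho (X := (x : Matrix (Fin 3) (Fin 3) F)) (T := (t : Matrix (Fin 3) (Fin 3) F)) ?_ ?_ ?_ ?_ ?_
    (hK.comm _ h2 _ h1)
  · rw [← Units.val_pow_eq_pow_val, hX, Units.val_one]
  · intro h8
    exact hX1 (Units.ext (by rw [h8, Units.val_one]))
  · rw [← Units.val_mul, ht, Units.val_one]
  · intro h8
    exact ht1 (Units.ext (by rw [h8, Units.val_one]))
  · intro h8
    rw [h8, Matrix.det_neg, Matrix.det_one, mul_one, Fintype.card_fin] at htd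
    apply ht1
    apply Units.ext
    rw [h8, Units.val_one]
    have h9 : (-1 : F) = 1 := by
      linear_combination htd
    ext i j
    rw [Matrix.neg_apply]
    by_cases hij : i = j
    · subst hij; rw [Matrix.one_apply_eq]; exact h9
    · rw [Matrix.one_apply_ne hij, neg_zero]

/-- subfields -/
theorem PN.no_subfield {x : GL (Fin 3) F} (hX : x ^ r = 1) (hX1 : x ≠ 1) {F₀ : Subfield F} {l : ℕ} (hl : 2 ≤ l)
    (hc : Fintype.card F = Nat.card F₀ ^ l) {P : GL (Fin 3) F} (hx : x ∈ subfieldSubgroup F₀ P) : False := by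
  have : Fact r.Prime := ⟨h.pr⟩
  have hn := h.n0
  obtain ⟨y, hy, hyx⟩ := hx
  rw [SetLike.mem_coe, Subgroup.mem_sup_of_normal_right] at hy
  obtain ⟨_, ⟨a, rfl⟩, z, hz, rfl⟩ := hy
  obtain ⟨c, hc'⟩ := (mem_scalars_iff z).1 hz
  -- orders
  have : Finite F₀ := inferInstance
  have : Fintype F₀ := Fintype.ofFinite F₀
  have hzN : z ^ (Fintype.card F - 1) = 1 := by
    classical
    apply Units.ext
    rw [Units.val_pow_eq_pow_val, hc', smul_pow, one_pow, Units.val_one, ← Units.val_pow_eq_pow_val,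
      ← Fintype.card_units, pow_card_eq_one, Units.val_one, one_smul]
  have hcomm : ∀ g : GL (Fin 3) F, g * z = z * g := by
    intro g
    apply Units.ext
    rw [Units.val_mul, Units.val_mul, hc']
    simp
  set A : GL (Fin 3) F := Matrix.GeneralLinearGroup.map (F₀.subtype : F₀ →+* F) a with hA
  have hAN : A ^ Nat.card (GL (Fin 3) F₀) = 1 := by rw [hA, ← map_pow, pow_card_eq_one', map_one]
  set N := Nat.card (GL (Fin 3) F₀) * (Fintype.card F - 1) with hN
  have h1 : (A * z) ^ N = 1 := by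
    rw [(show Commute A z from hcomm A).mul_pow, hN, pow_mul, hAN, one_pow, one_mul, mul_comm, pow_mul, hzN, one_pow]
  have h2 : x ^ N = 1 := by
    have h3 : P * (A * z) * P⁻¹ = x := hyx
    rw [← h3, conj_pow, h1, mul_one, mul_inv_cancel]
  have h3 : r ∣ N := by
    have h4 : orderOf x = r := orderOf_eq_prime hX hX1
    rw [← h4]; exact orderOf_dvd_of_pow_eq_one h2
  -- the order of `GL₃(F₀)`
  obtain ⟨s, hs⟩ : ∃ s, Nat.card F₀ = s := ⟨_, rfl⟩
  rw [hs, h.cF] at hc
  have hsp : ∃ j, s = p ^ j := by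
    have h5 : s ∣ p ^ (2 * n) := by rw [hc]; exact dvd_pow_self s (by omega)
    obtain ⟨j, -, hj⟩ := (Nat.dvd_prime_pow h.pp).1 h5
    exact ⟨j, hj⟩
  obtain ⟨j, hj⟩ := hsp
  have hjl : j * l = 2 * n := by
    rw [hj, ← pow_mul] at hc
    exact (Nat.pow_right_injective h.pp.two_le hc).symm
  have hj0 : 0 < j := by
    rcases Nat.eq_zero_or_pos j with rfl | h5
    · omega
    · exact h5
  have hjn : j ≤ n := by
    have : j * 2 ≤ j * l := Nat.mul_le_mul_left j hl
    omega
  rcases h.pr.dvd_mul.1 h3 with h4 | h4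
  · rw [Matrix.card_GL_field, Fin.prod_univ_three, ← Nat.card_eq_fintype_card, hs] at h4
    simp only [Fin.val_zero, Fin.val_one, Fin.val_two, pow_zero, pow_one] at h4
    have e1 : s ^ 3 - s = s * (s ^ 2 - 1) := by
      rw [Nat.mul_sub, mul_one, show s * s ^ 2 = s ^ 3 by ring]
    have e2 : s ^ 3 - s ^ 2 = s ^ 2 * (s - 1) := by
      rw [Nat.mul_sub, mul_one, show s ^ 2 * s = s ^ 3 by ring]
    rw [e1, e2] at h4
    have hns : ¬ r ∣ s := by
      intro h5
      rw [hj] at h5
      exact h.rp (h.pr.dvd_of_dvd_pow h5)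
    rcases h.pr.dvd_mul.1 h4 with h4 | h4
    · rcases h.pr.dvd_mul.1 h4 with h4 | h4
      · rw [hj, ← pow_mul] at h4
        exact h.not_dvd (by omega) (by omega) h4
      · rcases h.pr.dvd_mul.1 h4 with h4 | h4
        · exact hns h4
        · rw [hj, ← pow_mul] at h4
          exact h.not_dvd (by omega) (by omega) h4
    · rcases h.pr.dvd_mul.1 h4 with h4 | h4
      · exact hns (h.pr.dvd_of_dvd_pow h4)
      · rw [hj] at h4
        exact h.not_dvd (by omega) (by omega) h4
  · rw [h.cF] at h4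
    exact h.not_dvd (by omega) (by omega) h4

end

end Cfsg.Agent.H947.El
end
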